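import Mathlib

/-! Unipotent actions. -/

set_option autoImplicit false

universe u v

namespace Groth.Agent.SSRedLib

section charZero

variable {K : Type u} {V : Type v} [Field K] [CharZero K] [AddCommGroup V] [Module K V]

theorem ker_pow_sub_one_eq (g : Module.End K V) (hg : IsNilpotent (g - 1)) (n : ℕ) (hn : 0 < n) :
    LinearMap.ker (g ^ n - 1) = LinearMap.ker (g - 1) := by
  have hcomm : Commute g (g - 1) := (Commute.refl g).sub_right (Commute.one_right g)
  have key : ∀ i, IsNilpotent (g ^ i - 1) := fun i ↦ by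
    rw [← geom_sum_mul]
    exact (Commute.sum_left _ _ _ fun j _ ↦ hcomm.pow_left j).isNilpotent_mul_left hg
  have hu : IsUnit (∑ i ∈ Finset.range n, g ^ i) := by
    have h1 : IsNilpotent (∑ i ∈ Finset.range n, (g ^ i - 1)) :=
      Commute.isNilpotent_sum (fun i _ ↦ key i) fun i j _ _ ↦
        (((Commute.refl g).pow_pow i j).sub_left (Commute.one_left _)).sub_right (Commute.one_right _)
    have h2 : IsUnit ((n : K) • (1 : Module.End K V)) := by
      rw [← Algebra.algebraMap_eq_smul_one]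
      exact (isUnit_iff_ne_zero.mpr (Nat.cast_ne_zero.mpr hn.ne')).map _
    have h3 := h1.isUnit_add_left_of_commute h2
      ((Commute.one_right _).smul_right (n : K))
    rwa [Finset.sum_sub_distrib, Finset.sum_const, Finset.card_range, Nat.cast_smul_eq_nsmul,
      add_sub_cancel] at h3
  rw [← geom_sum_mul]
  exact LinearMap.ker_comp_of_ker_eq_bot _
    (LinearMap.ker_eq_bot.mpr ((Module.End.isUnit_iff _).mp hu).1)

theorem forall_fixed {G : Type*} [Group G] (ρ : G →* (V ≃ₗ[K] V))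
    (hunip : ∀ g : G, IsNilpotent (((ρ g : V ≃ₗ[K] V) : Module.End K V) - 1))
    (H : Subgroup G) [H.FiniteIndex] (v : V) (hv : ∀ h ∈ H, ρ h v = v) (g : G) :
    ρ g v = v := by
  have hn := Subgroup.FiniteIndex.index_ne_zero (H := H.normalCore)
  have hmem : g ^ H.normalCore.index ∈ H :=
    H.normalCore_le (Subgroup.pow_index_mem _ g)
  have hpow : ∀ n : ℕ, ((ρ g : V ≃ₗ[K] V) : Module.End K V) ^ n = ((ρ (g ^ n) : V ≃ₗ[K] V) : Module.End K V) :=
    fun n ↦ by
      induction n with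
      | zero => ext x; simp
      | succ n ih => rw [pow_succ, ih, pow_succ, map_mul]; rfl
  have : v ∈ LinearMap.ker (((ρ g : V ≃ₗ[K] V) : Module.End K V) - 1) := by
    rw [← ker_pow_sub_one_eq _ (hunip g) _ (Nat.pos_of_ne_zero hn), LinearMap.mem_ker,
      LinearMap.sub_apply, hpow, Module.End.one_apply, sub_eq_zero]
    exact hv _ hmem
  simpa [sub_eq_zero] using this

end charZero

section sup

variable {K : Type u} {V : Type v} [Field K] [AddCommGroup V] [Module K V]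

/-- The canonical filtration of a unipotent action. -/
def unipFil (H : Subgroup (V ≃ₗ[K] V)) : ℕ → Submodule K V
  | 0 => ⊥
  | k + 1 => ⨅ h : H, (unipFil H k).comap (((h : V ≃ₗ[K] V) : Module.End K V) - 1)

variable {H₁ H₂ : Subgroup (V ≃ₗ[K] V)}

theorem mem_unipFil_succ {k : ℕ} {v : V} :
    v ∈ unipFil H₁ (k + 1) ↔ ∀ h ∈ H₁, (h : V ≃ₗ[K] V) v - v ∈ unipFil H₁ k := by
  simp [unipFil]

theorem unipFil_le_succ (k : ℕ) : unipFil H₁ k ≤ unipFil H₁ (k + 1) := by
  induction k with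
  | zero => exact bot_le
  | succ k ih =>
    intro v hv
    rw [mem_unipFil_succ] at hv ⊢
    exact fun h hh ↦ ih (hv h hh)

theorem unipFil_stable₂ (hnorm : ∀ g ∈ H₂, ∀ h ∈ H₁, g * h * g⁻¹ ∈ H₁) (k : ℕ) :
    ∀ g ∈ H₂, ∀ v ∈ unipFil H₁ k, (g : V ≃ₗ[K] V) v ∈ unipFil H₁ k := by
  induction k with
  | zero => intro g _ v hv; simp_all [unipFil]
  | succ k ih =>
    intro g hg v hv
    rw [mem_unipFil_succ] at hv ⊢
    intro h hh
    have := ih g hg _ (hv _ (hnorm g⁻¹ (inv_mem hg) h hh))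
    simpa [map_sub] using this

theorem unipFil_stable₁ (k : ℕ) :
    ∀ g ∈ H₁, ∀ v ∈ unipFil H₁ k, (g : V ≃ₗ[K] V) v ∈ unipFil H₁ k := by
  intro g hg v hv
  cases k with
  | zero => simp_all [unipFil]
  | succ k => simpa using add_mem (unipFil_le_succ k (mem_unipFil_succ.mp hv g hg)) hv

theorem eq_top_of_prod_eq_zero {n : ℕ}
    (h₁ : ∀ f : Fin n → ↥H₁,
      (List.ofFn fun i => (((f i : ↥H₁) : V ≃ₗ[K] V) : Module.End K V) - 1).prod = 0) :
    unipFil H₁ n = ⊤ := by
  suffices ∀ k (v : V), (∀ f : Fin k → ↥H₁,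
      (List.ofFn fun i => (((f i : ↥H₁) : V ≃ₗ[K] V) : Module.End K V) - 1).prod v = 0) →
      v ∈ unipFil H₁ k from eq_top_iff.mpr fun v _ ↦ this n v fun f ↦ by rw [h₁ f]; rfl
  intro k
  induction k with
  | zero => intro v hv; simpa [unipFil] using hv Fin.elim0
  | succ k ih =>
    intro v hv
    rw [mem_unipFil_succ]
    intro h hh
    refine ih _ fun f ↦ ?_
    have := hv (Fin.snoc f ⟨h, hh⟩)
    rw [List.ofFn_succ'] at this
    simpa [List.concat_eq_append, Module.End.mul_apply] using this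

theorem exists_prod_sub_one_eq_zero_sup
    (hnorm : ∀ g ∈ H₂, ∀ h ∈ H₁, g * h * g⁻¹ ∈ H₁)
    (h₁ : ∃ n : ℕ, ∀ f : Fin n → ↥H₁,
      (List.ofFn fun i => (((f i : ↥H₁) : V ≃ₗ[K] V) : Module.End K V) - 1).prod = 0)
    (h₂ : ∃ n : ℕ, ∀ f : Fin n → ↥H₂,
      (List.ofFn fun i => (((f i : ↥H₂) : V ≃ₗ[K] V) : Module.End K V) - 1).prod = 0) :
    ∃ n : ℕ, ∀ f : Fin n → ↥(H₁ ⊔ H₂),
      (List.ofFn fun i => (((f i : ↥(H₁ ⊔ H₂)) : V ≃ₗ[K] V) : Module.End K V) - 1).prod = 0 := by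
  obtain ⟨n₁, h₁⟩ := h₁
  obtain ⟨n₂, h₂⟩ := h₂
  have key : ∀ g ∈ H₁ ⊔ H₂, (∀ k, ∀ v ∈ unipFil H₁ k, (g : V ≃ₗ[K] V) v ∈ unipFil H₁ k) ∧
      ∃ g₂ ∈ H₂, ∀ k, ∀ v ∈ unipFil H₁ (k + 1), (g : V ≃ₗ[K] V) v - g₂ v ∈ unipFil H₁ k := by
    intro g hg
    rw [Subgroup.sup_eq_closure] at hg
    induction hg using Subgroup.closure_induction'' with
    | mem x hx =>
      rcases hx with hx | hx
      · exact ⟨fun k ↦ unipFil_stable₁ k x hx, 1, one_mem _, fun k v hv ↦ by
          simpa using mem_unipFil_succ.mp hv x hx⟩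
      · exact ⟨fun k ↦ unipFil_stable₂ hnorm k x hx, x, hx, fun k v _ ↦ by simp⟩
    | inv_mem x hx =>
      rcases hx with hx | hx
      · exact ⟨fun k ↦ unipFil_stable₁ k _ (inv_mem hx), 1, one_mem _, fun k v hv ↦ by
          simpa using mem_unipFil_succ.mp hv _ (inv_mem hx)⟩
      · exact ⟨fun k ↦ unipFil_stable₂ hnorm k _ (inv_mem hx), _, inv_mem hx, fun k v _ ↦ by simp⟩
    | one => exact ⟨fun k v hv ↦ hv, 1, one_mem _, fun k v _ ↦ by simp⟩
    | mul x y _ _ hx hy =>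
      obtain ⟨hxs, x₂, hx₂, hx'⟩ := hx
      obtain ⟨hys, y₂, hy₂, hy'⟩ := hy
      refine ⟨fun k v hv ↦ hxs k _ (hys k v hv), x₂ * y₂, mul_mem hx₂ hy₂, fun k v hv ↦ ?_⟩
      have h1 := hx' k _ (hys (k + 1) v hv)
      have h2 := unipFil_stable₂ hnorm k x₂ hx₂ _ (hy' k v hv)
      have := add_mem h1 h2
      simpa [map_sub] using this
  refine ⟨n₁ * n₂, fun f ↦ ?_⟩
  suffices ∀ (k : ℕ) (l : List (V ≃ₗ[K] V)), (∀ g ∈ l, g ∈ H₁ ⊔ H₂) → l.length = k * n₂ →
      ∀ v ∈ unipFil H₁ k, (l.map fun g : V ≃ₗ[K] V ↦ (g : Module.End K V) - 1).prod v = 0 by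
    refine LinearMap.ext fun v ↦ ?_
    have := this n₁ (List.ofFn fun i ↦ (f i).1)
      (by intro g hg; obtain ⟨i, rfl⟩ := List.mem_ofFn.mp hg; exact (f i).2) List.length_ofFn v
      (eq_top_of_prod_eq_zero h₁ ▸ Submodule.mem_top)
    rw [List.map_ofFn] at this
    exact this
  intro k
  induction k with
  | zero => intro l _ _ v hv; simp only [unipFil, Submodule.mem_bot] at hv; simp [hv]
  | succ k ih =>
    intro l hl hlen v hv
    rw [← List.take_append_drop (k * n₂) l, List.map_append, List.prod_append, Module.End.mul_apply]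
    refine ih _ (fun g hg ↦ hl g (List.mem_of_mem_take hg))
      (by rw [List.length_take, hlen, Nat.min_eq_left]; rw [add_mul, one_mul]; omega) _ ?_
    set m := l.drop (k * n₂)
    have hm : ∀ g ∈ m, g ∈ H₁ ⊔ H₂ := fun g hg ↦ hl g (List.mem_of_mem_drop hg)
    have hmlen : m.length = n₂ := by rw [List.length_drop, hlen, add_mul, one_mul]; omega
    have step : ∀ m : List (V ≃ₗ[K] V), (∀ g ∈ m, g ∈ H₁ ⊔ H₂) → ∃ m' : List (↥H₂), m'.length = m.length ∧
        (m.map fun g : V ≃ₗ[K] V ↦ (g : Module.End K V) - 1).prod v ∈ unipFil H₁ (k + 1) ∧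
        (m.map fun g : V ≃ₗ[K] V ↦ (g : Module.End K V) - 1).prod v -
          (m'.map fun g : ↥H₂ ↦ ((g.1 : V ≃ₗ[K] V) : Module.End K V) - 1).prod v ∈ unipFil H₁ k := by
      intro m
      induction m with
      | nil => intro _; exact ⟨[], rfl, by simpa using hv, by simp⟩
      | cons g m ihm =>
        intro hm
        obtain ⟨m', hlen', hw, hww⟩ := ihm fun x hx ↦ hm x (List.mem_cons_of_mem _ hx)
        obtain ⟨hgs, g₂, hg₂, hg'⟩ := key g (hm g List.mem_cons_self)
        refine ⟨⟨g₂, hg₂⟩ :: m', by simp [hlen'], ?_, ?_⟩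
        · simp only [List.map_cons, List.prod_cons, Module.End.mul_apply, LinearMap.sub_apply]
          exact sub_mem (hgs _ _ hw) hw
        · simp only [List.map_cons, List.prod_cons, Module.End.mul_apply, LinearMap.sub_apply]
          have h1 := hg' k _ hw
          have h2 := sub_mem (unipFil_stable₂ hnorm k g₂ hg₂ _ hww) hww
          have := add_mem h1 h2
          simp only [map_sub] at this
          simp only [LinearEquiv.coe_coe, Module.End.one_apply]
          convert this using 1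
          abel
    obtain ⟨m', hlen', -, hww⟩ := step m hm
    have h0 : (m'.map fun g : ↥H₂ ↦ ((g.1 : V ≃ₗ[K] V) : Module.End K V) - 1).prod = 0 := by
      have hl' : m'.length = n₂ := hlen'.trans hmlen
      subst hl'
      rw [← List.ofFn_get (l := m'), List.map_ofFn]
      exact h₂ m'.get
    rw [h0, LinearMap.zero_apply, sub_zero] at hww
    exact hww

end sup

end Groth.Agent.SSRedLib
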