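import Mathlib

/-! The greatest common divisor of `∏ (ℓ ^ (2a) - 1)` over large primes `ℓ`. -/

set_option autoImplicit false

open Finset

namespace Groth.Agent.SSRedLib

/-- The exponent at `p` of the gcd of `ℓ ^ (2a) - 1`. -/
def ssExp (p a : ℕ) : ℕ :=
  if p = 2 then 3 + padicValNat 2 a
  else if p - 1 ∣ 2 * a then 1 + padicValNat p (2 * a / (p - 1)) else 0

theorem le_ssExp_iff {p a k : ℕ} (hp : p.Prime) (ha : a ≠ 0) (hp2 : p ≠ 2) :
    k ≤ ssExp p a ↔ k = 0 ∨ p ^ (k - 1) * (p - 1) ∣ 2 * a := by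
  have : Fact p.Prime := ⟨hp⟩
  rcases Nat.eq_zero_or_pos k with rfl | hk
  · simp
  simp only [hk.ne', false_or, ssExp, hp2, if_false]
  split_ifs with hd
  · obtain ⟨c, hc⟩ := hd
    have hp1 : 0 < p - 1 := by have := hp.two_le; omega
    rw [hc, Nat.mul_div_cancel_left _ hp1, mul_comm (p - 1), Nat.mul_dvd_mul_iff_right hp1,
      padicValNat_dvd_iff_le (fun h ↦ by simp [h] at hc; omega)]
    omega
  · exact iff_of_false (by omega) fun h ↦ hd ((dvd_mul_left _ _).trans h)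

theorem dvd_pow_sub_one_iff {m x e : ℕ} (hx : 0 < x) :
    m ∣ x ^ e - 1 ↔ (x : ZMod m) ^ e = 1 := by
  rw [← ZMod.natCast_eq_zero_iff, Nat.cast_sub (Nat.one_le_pow _ _ hx), sub_eq_zero, Nat.cast_pow,
    Nat.cast_one]

theorem two_pow_dvd_pow_two_pow_sub_one {x : ℕ} (hx : Odd x) (v : ℕ) :
    2 ^ (3 + v) ∣ x ^ (2 ^ (v + 1)) - 1 := by
  induction v with
  | zero => simpa using Nat.eight_dvd_sq_sub_one_of_odd hx
  | succ v ih =>
    have h1 : 1 ≤ x ^ (2 ^ (v + 1)) := Nat.one_le_pow _ _ hx.pos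
    have h2 : x ^ (2 ^ (v + 1 + 1)) - 1 = (x ^ (2 ^ (v + 1)) + 1) * (x ^ (2 ^ (v + 1)) - 1) := by
      rw [← Nat.sq_sub_sq, ← pow_mul, ← pow_succ, one_pow]
    rw [h2, show 3 + (v + 1) = (3 + v) + 1 by omega, pow_succ, mul_comm (2 ^ (3 + v))]
    exact mul_dvd_mul (even_iff_two_dvd.mp (Odd.add_odd hx.pow odd_one)) ih

/-- Lower bound. -/
theorem dvd_pow_sub_one {p ℓ a : ℕ} (hp : p.Prime) (hℓ : ℓ.Prime) (hne : ℓ ≠ p) (ha : a ≠ 0) :
    p ^ ssExp p a ∣ ℓ ^ (2 * a) - 1 := by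
  rcases eq_or_ne p 2 with rfl | hp2
  · have hv : 2 ^ (padicValNat 2 a + 1) ∣ 2 * a := by
      rw [pow_succ']; exact mul_dvd_mul_left 2 pow_padicValNat_dvd
    obtain ⟨c, hc⟩ := hv
    rw [ssExp, if_pos rfl]
    refine (two_pow_dvd_pow_two_pow_sub_one (hℓ.odd_of_ne_two hne) _).trans ?_
    rw [hc, pow_mul]
    simpa using Nat.sub_dvd_pow_sub_pow (ℓ ^ 2 ^ (padicValNat 2 a + 1)) 1 c
  · rcases ((le_ssExp_iff hp ha hp2).mp le_rfl) with h0 | ⟨c, hc⟩
    · simp [h0]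
    rcases Nat.eq_zero_or_pos (ssExp p a) with h0 | h0
    · simp [h0]
    rw [dvd_pow_sub_one_iff hℓ.pos, hc, ← Nat.totient_prime_pow hp h0, pow_mul]
    have hcop : ℓ.Coprime (p ^ ssExp p a) := ((Nat.coprime_primes hℓ hp).mpr hne).pow_right _
    rw [← ZMod.coe_unitOfCoprime ℓ hcop, ← Units.val_pow_eq_pow_val, ZMod.pow_totient]
    simp

/-- The lower bound is attained by a prime in a suitable class. -/
theorem exists_prime_padicValNat_eq {p : ℕ} (hp : p.Prime) (B g : ℕ) :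
    ∃ ℓ, ℓ.Prime ∧ B < ℓ ∧ ℓ ≠ p ∧
      ∀ a ∈ Icc 1 g, padicValNat p (ℓ ^ (2 * a) - 1) = ssExp p a := by
  classical
  have : Fact p.Prime := ⟨hp⟩
  let M := (∑ a ∈ Icc 1 g, ssExp p a) + 2
  have hM : ∀ a ∈ Icc 1 g, ssExp p a + 2 ≤ M := fun a ha ↦
    Nat.add_le_add_right (Finset.single_le_sum (fun _ _ ↦ Nat.zero_le _) ha) 2
  -- a unit whose images have maximal order
  obtain ⟨u, hu⟩ : ∃ u : (ZMod (p ^ M))ˣ, ∀ k, ∀ hk : k ≤ M, ∀ a : ℕ, a ≠ 0 →
      ((ZMod.unitsMap (pow_dvd_pow p hk) u : (ZMod (p ^ k))ˣ) : ZMod (p ^ k)) ^ (2 * a) = 1 →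
        k ≤ ssExp p a := by
    rcases eq_or_ne p 2 with rfl | hp2
    · have h5 : Nat.Coprime 5 (2 ^ M) := Nat.Coprime.pow_right _ (by norm_num)
      refine ⟨ZMod.unitOfCoprime 5 h5, fun k hk a ha h ↦ ?_⟩
      rcases Nat.lt_or_ge k 2 with hk2 | hk2
      · simp only [ssExp, if_pos]; omega
      obtain ⟨j, rfl⟩ : ∃ j, k = j + 2 := ⟨k - 2, by omega⟩
      have h' : (5 : ZMod (2 ^ (j + 2))) ^ (2 * a) = 1 := by
        rw [ZMod.unitsMap_val, ZMod.coe_unitOfCoprime, ZMod.cast_natCast (pow_dvd_pow 2 hk)] at h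
        exact_mod_cast h
      rw [← orderOf_dvd_iff_pow_eq_one, ZMod.orderOf_five,
        padicValNat_dvd_iff_le (mul_ne_zero two_ne_zero ha), padicValNat.mul two_ne_zero ha,
        padicValNat.self one_lt_two] at h'
      simp only [ssExp, if_pos]
      omega
    · have := ZMod.isCyclic_units_of_prime_pow p hp hp2 M
      obtain ⟨u, hu⟩ := IsCyclic.exists_generator (α := (ZMod (p ^ M))ˣ)
      refine ⟨u, fun k hk a ha h ↦ ?_⟩
      rcases Nat.eq_zero_or_pos k with rfl | hk0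
      · exact Nat.zero_le _
      rw [le_ssExp_iff hp ha hp2, ← Nat.totient_prime_pow hp hk0]
      refine Or.inr ?_
      rw [← Units.val_pow_eq_pow_val, Units.val_eq_one, ← orderOf_dvd_iff_pow_eq_one] at h
      refine dvd_trans (Eq.dvd ?_) h
      rw [← ZMod.card_units_eq_totient, ← Nat.card_eq_fintype_card, orderOf_eq_card_of_forall_mem_zpowers]
      intro y
      obtain ⟨x, rfl⟩ := ZMod.unitsMap_surjective (pow_dvd_pow p hk) y
      obtain ⟨i, rfl⟩ := Subgroup.mem_zpowers_iff.mp (hu x)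
      exact Subgroup.mem_zpowers_iff.mpr ⟨i, (map_zpow _ _ _).symm⟩
  have : NeZero (p ^ M) := ⟨pow_ne_zero _ hp.ne_zero⟩
  obtain ⟨ℓ, hℓB, hℓ, hℓu⟩ := Nat.forall_exists_prime_gt_and_eq_mod u.isUnit (max B p)
  have hne : ℓ ≠ p := by omega
  refine ⟨ℓ, hℓ, by omega, hne, fun a ha ↦ ?_⟩
  have ha0 : a ≠ 0 := by have := (mem_Icc.mp ha).1; omega
  have hpos : ℓ ^ (2 * a) - 1 ≠ 0 := by
    have : 1 < ℓ ^ (2 * a) := Nat.one_lt_pow (by omega) hℓ.one_lt
    omega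
  refine le_antisymm ?_ ((padicValNat_dvd_iff_le hpos).mp (dvd_pow_sub_one hp hℓ hne ha0))
  by_contra! hlt
  have hk : ssExp p a + 1 ≤ M := by have := hM a ha; omega
  have h := (dvd_pow_sub_one_iff hℓ.pos).mp ((padicValNat_dvd_iff_le hpos).mpr hlt : p ^ (ssExp p a + 1) ∣ _)
  have := hu (ssExp p a + 1) hk a ha0 (by
    rw [ZMod.unitsMap_val, ← hℓu, ZMod.cast_natCast (pow_dvd_pow p hk)]
    exact h)
  omega

theorem padicValNat_prod {p : ℕ} [Fact p.Prime] (g : ℕ) (f : ℕ → ℕ) (hf : ∀ a ∈ Icc 1 g, f a ≠ 0) :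
    padicValNat p (∏ a ∈ Icc 1 g, f a) = ∑ a ∈ Icc 1 g, padicValNat p (f a) := by
  induction g with
  | zero => simp
  | succ g ih =>
    have hsub : ∀ a ∈ Icc 1 g, f a ≠ 0 := fun a ha ↦ hf a (Icc_subset_Icc_right g.le_succ ha)
    rw [prod_Icc_succ_top (by omega), sum_Icc_succ_top (by omega),
      padicValNat.mul (prod_ne_zero_iff.mpr hsub) (hf _ (right_mem_Icc.mpr (by omega))), ih hsub]

theorem padicValNat_factorial (p g : ℕ) [Fact p.Prime] :
    padicValNat p g.factorial = ∑ a ∈ Icc 1 g, padicValNat p a := by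
  rw [← padicValNat_prod g (fun a ↦ a) fun a ha ↦ by simp at ha ⊢; omega]
  rw [← Finset.Ico_add_one_right_eq_Icc, Finset.prod_Ico_id_eq_factorial]

/-- The number `N(g)`. -/
def ssN (g : ℕ) : ℕ :=
  2 ^ (3 * g + padicValNat 2 g.factorial) *
    ∏ p ∈ (Icc 3 (2 * g + 1)).filter Nat.Prime,
      p ^ ((2 * g) / (p - 1) + ∑ i ∈ Icc 1 ((2 * g) / (p - 1)), padicValNat p i)

theorem sum_ssExp_two (g : ℕ) :
    ∑ a ∈ Icc 1 g, ssExp 2 a = 3 * g + padicValNat 2 g.factorial := by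
  simp only [ssExp, if_pos, sum_add_distrib, sum_const, Nat.card_Icc, smul_eq_mul, padicValNat_factorial]
  omega

theorem sum_ssExp_odd {p : ℕ} (hp : p.Prime) (hp2 : p ≠ 2) (g : ℕ) :
    ∑ a ∈ Icc 1 g, ssExp p a =
      (2 * g) / (p - 1) + ∑ i ∈ Icc 1 ((2 * g) / (p - 1)), padicValNat p i := by
  obtain ⟨t, ht⟩ := hp.odd_of_ne_two hp2
  have htp : p - 1 = 2 * t := by omega
  have ht0 : 0 < t := by have := hp.two_le; omega
  have h1 : ∀ a, (p - 1 ∣ 2 * a) ↔ t ∣ a := fun a ↦ by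
    rw [htp]; exact Nat.mul_dvd_mul_iff_left two_pos
  simp only [ssExp, hp2, if_false, h1]
  simp only [htp, Nat.mul_div_mul_left _ _ two_pos]
  rw [← sum_filter, show (Icc 1 g).filter (t ∣ ·) = (Icc 1 (g / t)).image (t * ·) by
    ext a
    simp only [mem_filter, mem_Icc, mem_image]
    constructor
    · rintro ⟨⟨h1, h2⟩, c, rfl⟩
      refine ⟨c, ⟨?_, ?_⟩, rfl⟩
      · rcases Nat.eq_zero_or_pos c with rfl | h
        · simp at h1
        · exact h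
      · exact (Nat.le_div_iff_mul_le ht0).mpr (by rwa [mul_comm])
    · rintro ⟨c, ⟨h1, h2⟩, rfl⟩
      refine ⟨⟨Nat.mul_pos ht0 h1, ?_⟩, c, rfl⟩
      rw [mul_comm]; exact (Nat.le_div_iff_mul_le ht0).mp h2]
  rw [sum_image (fun a _ b _ h ↦ Nat.eq_of_mul_eq_mul_left ht0 h)]
  simp only [Nat.mul_div_cancel_left _ ht0, sum_add_distrib, sum_const, Nat.card_Icc, smul_eq_mul]
  rw [Nat.add_sub_cancel, mul_one]

theorem ssN_ne_zero (g : ℕ) : ssN g ≠ 0 :=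
  mul_ne_zero (pow_ne_zero _ two_ne_zero) (prod_ne_zero_iff.mpr fun p hp ↦
    pow_ne_zero _ (Finset.mem_filter.mp hp).2.ne_zero)

theorem factorization_ssN {p : ℕ} (hp : p.Prime) (g : ℕ) :
    (ssN g).factorization p = ∑ a ∈ Icc 1 g, ssExp p a := by
  classical
  have hprod : ∀ q ∈ (Icc 3 (2 * g + 1)).filter Nat.Prime,
      q ^ ((2 * g) / (q - 1) + ∑ i ∈ Icc 1 ((2 * g) / (q - 1)), padicValNat q i) ≠ 0 := fun q hq ↦
    pow_ne_zero _ (Finset.mem_filter.mp hq).2.ne_zero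
  rw [ssN, Nat.factorization_mul (pow_ne_zero _ two_ne_zero) (prod_ne_zero_iff.mpr hprod),
    Finsupp.add_apply, Nat.prime_two.factorization_pow,
    Nat.factorization_prod hprod, Finsupp.finsetSum_apply]
  rw [sum_congr rfl fun q hq ↦ by rw [(Finset.mem_filter.mp hq).2.factorization_pow, Finsupp.single_apply]]
  rcases eq_or_ne p 2 with rfl | hp2
  · rw [Finsupp.single_eq_same, sum_ssExp_two, Nat.add_eq_left, sum_eq_zero fun q hq ↦ ?_]
    simp only [mem_filter, mem_Icc] at hq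
    rw [if_neg (by omega)]
  · rw [Finsupp.single_eq_of_ne hp2, zero_add]
    by_cases hle : p ≤ 2 * g + 1
    · rw [sum_eq_single p (fun q _ hne ↦ if_neg hne) (fun h ↦ absurd (Finset.mem_filter.mpr
        ⟨mem_Icc.mpr ⟨by have := hp.two_le; omega, hle⟩, hp⟩) h), if_pos rfl, sum_ssExp_odd hp hp2]
    · rw [sum_eq_zero fun q hq ↦ ?_, sum_eq_zero fun a ha ↦ ?_]
      · simp only [ssExp, hp2, if_false]
        refine if_neg fun h ↦ ?_
        have := mem_Icc.mp ha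
        have := Nat.le_of_dvd (by omega) h
        omega
      · simp only [mem_filter, mem_Icc] at hq
        rw [if_neg (by omega)]

theorem forall_dvd_iff (g B d : ℕ) (hB : 2 * g + 1 ≤ B) :
    (∀ ℓ : ℕ, ℓ.Prime → B < ℓ → d ∣ ∏ a ∈ Icc 1 g, (ℓ ^ (2 * a) - 1)) ↔ d ∣ ssN g := by
  have hne : ∀ ℓ : ℕ, ℓ.Prime → ∀ a ∈ Icc 1 g, ℓ ^ (2 * a) - 1 ≠ 0 := fun ℓ hℓ a ha ↦ by
    have := (mem_Icc.mp ha).1
    have : 1 < ℓ ^ (2 * a) := Nat.one_lt_pow (by omega) hℓ.one_lt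
    omega
  constructor
  · intro h
    have hd : d ≠ 0 := fun h0 ↦ by
      obtain ⟨ℓ, hℓB, hℓ⟩ := Nat.exists_infinite_primes (B + 1)
      have := h ℓ hℓ (by omega)
      rw [h0, zero_dvd_iff] at this
      exact prod_ne_zero_iff.mpr (hne ℓ hℓ) this
    rw [← Nat.factorization_prime_le_iff_dvd hd (ssN_ne_zero g)]
    intro p hp
    have : Fact p.Prime := ⟨hp⟩
    obtain ⟨ℓ, hℓ, hℓB, -, hv⟩ := exists_prime_padicValNat_eq hp B g
    rw [factorization_ssN hp, ← sum_congr rfl hv, ← padicValNat_prod g _ (hne ℓ hℓ),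
      Nat.factorization_def _ hp]
    exact (padicValNat_dvd_iff_le (prod_ne_zero_iff.mpr (hne ℓ hℓ))).mp
      (pow_padicValNat_dvd.trans (h ℓ hℓ hℓB))
  · intro h ℓ hℓ hℓB
    refine h.trans ((Nat.factorization_prime_le_iff_dvd (ssN_ne_zero g)
      (prod_ne_zero_iff.mpr (hne ℓ hℓ))).mp fun p hp ↦ ?_)
    have : Fact p.Prime := ⟨hp⟩
    rw [factorization_ssN hp, Nat.factorization_def _ hp, padicValNat_prod g _ (hne ℓ hℓ)]
    refine sum_le_sum fun a ha ↦ ?_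
    have ha' := mem_Icc.mp ha
    by_cases hpℓ : p = ℓ
    · subst hpℓ
      simp only [ssExp, show p ≠ 2 by omega, if_false]
      rw [if_neg fun h ↦ by have := Nat.le_of_dvd (by omega) h; omega]
      exact Nat.zero_le _
    · exact (padicValNat_dvd_iff_le (hne ℓ hℓ a ha)).mp (dvd_pow_sub_one hp hℓ (Ne.symm hpℓ) (by omega))

end Groth.Agent.SSRedLib
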