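import Mathlib

/-! Roots of unity congruent to one; integrality of `(α - 1) / √n`. -/

set_option autoImplicit false

universe u v

open Polynomial

namespace Groth.Agent.SSRedLib

theorem pow_eq_one_of_dvd_sub_one_sq (O : Type u) [CommRing O] [IsDomain O] [CharZero O]
    (n : ℕ) (hn : 0 < n) (hO : ∀ p : ℕ, p.Prime → p ∣ n → ¬ IsUnit (p : O))
    (α : O) (hα : IsOfFinOrder α) (h : (n : O) ∣ (α - 1) ^ 2) :
    (5 ≤ n → α = 1) ∧ (n = 4 → α ^ 2 = 1) ∧ (n = 3 → α ^ 3 = 1) ∧ (n = 2 → α ^ 4 = 1) := by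
  by_cases hα1 : α = 1
  · simp [hα1]
  by_cases hn1 : n = 1
  · subst hn1; refine ⟨?_, ?_, ?_, ?_⟩ <;> omega
  set m := orderOf α with hm
  have hm0 : 0 < m := hα.orderOf_pos
  have hm1 : m ≠ 1 := fun h ↦ hα1 (orderOf_eq_one_iff.mp h)
  have hζ : IsPrimitiveRoot α m := IsPrimitiveRoot.orderOf α
  have hassoc : ∀ μ ∈ primitiveRoots m O, Associated (α - 1) (1 - μ) := fun μ hμ ↦ by
    have : NeZero m := ⟨hm0.ne'⟩
    obtain ⟨i, -, hi, rfl⟩ := hζ.isPrimitiveRoot_iff.mp ((mem_primitiveRoots hm0).mp hμ)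
    have h1 : Associated (α - 1) (α ^ i - 1) :=
      hζ.associated_sub_one_pow_sub_one_of_coprime hi
    have h2 : Associated (α ^ i - 1) (1 - α ^ i) := ⟨-1, by simp⟩
    exact h1.trans h2
  have hev : Associated ((cyclotomic m O).eval 1) ((α - 1) ^ m.totient) := by
    rw [cyclotomic_eq_prod_X_sub_primitiveRoots hζ, eval_prod]
    simp only [eval_sub, eval_X, eval_C]
    rw [← hζ.card_primitiveRoots, ← Finset.prod_const]
    exact Associated.prod _ _ _ fun μ hμ ↦ (hassoc μ hμ).symm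
  obtain ⟨q, k, hq, hk, hqk⟩ : ∃ q k, q.Prime ∧ 0 < k ∧ q ^ k = m := by
    by_contra hnp
    push Not at hnp
    have hev1 : (cyclotomic m O).eval 1 = 1 := eval_one_cyclotomic_not_prime_pow fun {p} hp k hpk ↦ by
      rcases Nat.eq_zero_or_pos k with rfl | hk
      · exact hm1 (by simpa using hpk.symm)
      · exact hnp p k hp hk hpk
    rw [hev1] at hev
    have hu : IsUnit (α - 1) :=
      (isUnit_pow_iff (Nat.totient_pos.mpr hm0).ne').mp (hev.isUnit isUnit_one)
    obtain ⟨p, hp, hpn⟩ := Nat.exists_prime_and_dvd hn1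
    exact hO p hp hpn (isUnit_of_dvd_unit ((Nat.cast_dvd_cast hpn).trans h) (hu.pow 2))
  have : Fact q.Prime := ⟨hq⟩
  have hevq : (cyclotomic m O).eval 1 = q := by
    obtain ⟨k', rfl⟩ : ∃ k', k = k' + 1 := ⟨k - 1, by omega⟩
    rw [← hqk, eval_one_cyclotomic_prime_pow]
  rw [hevq] at hev
  have hd : (n : O) ^ m.totient ∣ (q : O) ^ 2 := by
    have h1 := pow_dvd_pow_of_dvd h m.totient
    rw [← pow_mul, mul_comm 2, pow_mul] at h1
    exact h1.trans (hev.symm.pow_pow (n := 2)).dvd
  have hpn : ∀ p, p.Prime → p ∣ n → p = q := fun p hp hpn ↦ by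
    by_contra hne
    have hpd : (p : O) ∣ (q : O) ^ 2 :=
      ((Nat.cast_dvd_cast hpn).trans (dvd_pow_self _ (Nat.totient_pos.mpr hm0).ne')).trans hd
    have hcop : IsCoprime (p : O) ((q : O) ^ 2) := by
      have := (Nat.isCoprime_iff_coprime.mpr (((Nat.coprime_primes hp hq).mpr hne).pow_right 2)).map
        (Int.castRingHom O)
      simpa using this
    exact hO p hp hpn (hcop.isUnit_of_dvd' dvd_rfl hpd)
  obtain ⟨p, hp, hpn'⟩ := Nat.exists_prime_and_dvd hn1
  have hqn : q ∣ n := hpn p hp hpn' ▸ hpn'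
  obtain ⟨j, hj⟩ : ∃ j, n = q ^ j :=
    ⟨_, Nat.eq_prime_pow_of_unique_prime_dvd hn.ne' fun {d} hd hdn ↦ hpn d hd hdn⟩
  have hj0 : j ≠ 0 := fun h0 ↦ hn1 (by rw [hj, h0, pow_zero])
  have hle : j * m.totient ≤ 2 := by
    rw [hj, Nat.cast_pow, ← pow_mul] at hd
    by_contra hlt
    push Not at hlt
    have h3 : (q : O) ^ (2 + 1) ∣ (q : O) ^ 2 := (pow_dvd_pow _ hlt).trans hd
    obtain ⟨c, hc⟩ := h3
    have : (q : O) ^ 2 * 1 = (q : O) ^ 2 * ((q : O) * c) := by
      rw [mul_one, ← mul_assoc, ← pow_succ, ← hc]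
    exact hO q hq hqn (IsUnit.of_mul_eq_one c
      (mul_left_cancel₀ (pow_ne_zero 2 (Nat.cast_ne_zero.mpr hq.ne_zero)) this).symm)
  have hpow : ∀ e, m ∣ e → α ^ e = 1 := fun e he ↦ (orderOf_dvd_iff_pow_eq_one (x := α)).mp he
  have htot : m.totient = q ^ (k - 1) * (q - 1) := by rw [← hqk, Nat.totient_prime_pow hq hk]
  have h2q : 2 ≤ q := hq.two_le
  have hpos : 0 < m.totient := Nat.totient_pos.mpr hm0
  have hq3 : q ≤ 3 := by
    have : q - 1 ≤ m.totient := by rw [htot]; exact Nat.le_mul_of_pos_left _ (pow_pos hq.pos _)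
    have : m.totient ≤ j * m.totient := Nat.le_mul_of_pos_left _ (Nat.pos_of_ne_zero hj0)
    omega
  interval_cases q
  · have hk2 : k ≤ 2 := by
      by_contra hk3
      have : 2 ^ 2 ≤ m.totient := by
        rw [htot]; simpa using Nat.pow_le_pow_right (by norm_num : 0 < 2) (by omega : 2 ≤ k - 1)
      have : m.totient ≤ j * m.totient := Nat.le_mul_of_pos_left _ (Nat.pos_of_ne_zero hj0)
      omega
    interval_cases k
    · simp only [Nat.sub_self, pow_zero, one_mul] at htot
      rw [htot] at hle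
      have hj2 : j ≤ 2 := by omega
      interval_cases j <;> subst hj <;>
        exact ⟨fun _ ↦ by omega, fun _ ↦ hpow 2 (by rw [← hqk]; norm_num), fun _ ↦ by omega, fun _ ↦ hpow 4 (by rw [← hqk]; norm_num)⟩
    · rw [htot] at hle
      have hj1 : j = 1 := by norm_num at hle; omega
      subst hj1; subst hj
      exact ⟨fun _ ↦ by omega, fun _ ↦ by omega, fun _ ↦ by omega, fun _ ↦ hpow 4 (by rw [← hqk]; norm_num)⟩
  · have hk1 : k = 1 := by
      by_contra hk2
      have : 3 ^ 1 ≤ 3 ^ (k - 1) := Nat.pow_le_pow_right (by norm_num) (by omega)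
      have : m.totient ≤ j * m.totient := Nat.le_mul_of_pos_left _ (Nat.pos_of_ne_zero hj0)
      omega
    subst hk1
    rw [htot] at hle
    have hj1 : j = 1 := by norm_num at hle; omega
    subst hj1; subst hj
    exact ⟨fun _ ↦ by omega, fun _ ↦ by omega, fun _ ↦ hpow 3 (by rw [← hqk]; norm_num), fun _ ↦ by omega⟩

theorem isIntegral_div_sqrt (n : ℕ) (hn : 0 < n) (g : ℕ) (f : Polynomial ℤ)
    (hf : f.Monic)
    (hA : ∀ (ℓ : ℕ) [Fact ℓ.Prime], ℓ ∣ n → ∃ A : Matrix (Fin g) (Fin g) ℤ_[ℓ],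
      A.charpoly = f.map (Int.castRingHom ℤ_[ℓ]) ∧
        ∃ B : Matrix (Fin g) (Fin g) ℤ_[ℓ], (A - 1) ^ 2 = (n : ℤ_[ℓ]) • B)
    (K : Type v) [Field K] [CharZero K] (α s : K) (hα : Polynomial.aeval α f = 0) (hs : s ^ 2 = (n : K)) :
    IsIntegral ℤ ((α - 1) / s) := by
  set d := f.natDegree with hd
  let H : ℤ[X] := C ((-1) ^ d) * (f.comp (X + C 1) * f.comp (C 1 - X))
  let G : ℤ[X] := Polynomial.contract 2 H
  have hHneg : H.comp (-X) = H := by
    simp only [H, mul_comp, C_comp, comp_assoc, add_comp, sub_comp, X_comp]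
    ring_nf
  have hodd : ∀ i, Odd i → H.coeff i = 0 := fun i hi ↦ by
    have := congrArg (fun p : ℤ[X] ↦ p.coeff i) hHneg
    simp only [show (-X : ℤ[X]) = C (-1) * X by simp, comp_C_mul_X_coeff, hi.neg_one_pow] at this
    omega
  have hGH : expand ℤ 2 G = H := by
    ext i
    rw [coeff_expand two_pos]
    split_ifs with h2
    · rw [show G.coeff (i / 2) = H.coeff (i / 2 * 2) from coeff_contract (by norm_num) H _,
        Nat.div_mul_cancel h2]
    · exact (hodd i (Nat.odd_iff.mpr (by omega))).symm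
  have hGd : G.natDegree = d := by
    have h1 : (expand ℤ 2 G).natDegree = d + d := by
      rw [hGH]
      simp only [H]
      rw [natDegree_C_mul (pow_ne_zero d (by norm_num)), natDegree_mul', natDegree_comp, natDegree_comp,
        natDegree_X_add_C, show (C 1 - X : ℤ[X]).natDegree = 1 by
          rw [natDegree_sub_eq_right_of_natDegree_lt] <;> simp]
      · simp [hd]
      · refine mul_ne_zero (leadingCoeff_ne_zero.mpr ?_) (leadingCoeff_ne_zero.mpr ?_)
        · intro h
          rcases comp_eq_zero_iff.mp h with h | ⟨-, h⟩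
          · exact hf.ne_zero h
          · have := congrArg natDegree h
            rw [natDegree_X_add_C, natDegree_C] at this
            exact one_ne_zero this
        · intro h
          rcases comp_eq_zero_iff.mp h with h | ⟨-, h⟩
          · exact hf.ne_zero h
          · have := congrArg (fun p : ℤ[X] ↦ p.coeff 1) h
            simp [coeff_one] at this
    rw [natDegree_expand] at h1
    omega
  have hGm : G.coeff d = 1 := by
    have : G.leadingCoeff = 1 := by
      have h1 : (expand ℤ 2 G).leadingCoeff = G.leadingCoeff := leadingCoeff_expand two_pos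
      rw [← h1, hGH]
      simp only [H]
      rw [leadingCoeff_mul, leadingCoeff_mul, leadingCoeff_C,
        leadingCoeff_comp (by rw [natDegree_X_add_C]; exact one_ne_zero), leadingCoeff_comp (by
          rw [natDegree_sub_eq_right_of_natDegree_lt] <;> simp), leadingCoeff_X_add_C,
        show (C 1 - X : ℤ[X]).leadingCoeff = -1 by
          rw [show (C 1 - X : ℤ[X]) = -(X - C 1) by ring, leadingCoeff_neg, leadingCoeff_X_sub_C],
        hf.leadingCoeff, one_pow, one_mul, one_mul, ← hd]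
      rw [one_mul, ← mul_pow]
      simp
    rwa [leadingCoeff, hGd] at this
  have hdvd : ∀ i ≤ d, (n : ℤ) ^ (d - i) ∣ G.coeff i := by
    intro i hi
    rcases eq_or_ne (G.coeff i) 0 with h0 | h0
    · simp [h0]
    rw [← Int.natAbs_dvd_natAbs, Int.natAbs_pow, Int.natAbs_natCast,
      ← Nat.factorization_prime_le_iff_dvd (pow_ne_zero _ hn.ne') (Int.natAbs_ne_zero.mpr h0)]
    intro ℓ hℓ
    rw [Nat.factorization_pow, Finsupp.smul_apply, smul_eq_mul]
    rcases Nat.eq_zero_or_pos (n.factorization ℓ) with hz | hz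
    · simp [hz]
    have : Fact ℓ.Prime := ⟨hℓ⟩
    obtain ⟨A, hAc, B, hB⟩ := hA ℓ (Nat.dvd_of_factorization_pos hz.ne')
    have hgd : g = d := by
      have := congrArg natDegree hAc
      rwa [Matrix.charpoly_natDegree_eq_dim, Fintype.card_fin, hf.natDegree_map, ← hd] at this
    -- compute the characteristic polynomial of `(A - 1) ^ 2`
    let A' : Matrix (Fin g) (Fin g) ℤ_[ℓ][X] := A.map C
    let sc := Matrix.scalar (Fin g) (α := ℤ_[ℓ][X])
    have hev : ∀ t : ℤ_[ℓ][X], (sc t - A').det = (f.map (Int.castRingHom ℤ_[ℓ])).comp t := fun t ↦ by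
      rw [← Matrix.eval_charpoly, Matrix.charpoly_map, hAc, Polynomial.eval_map]
      rfl
    have hG : G.map (Int.castRingHom ℤ_[ℓ]) = ((A - 1) ^ 2).charpoly := by
      refine expand_injective two_pos ?_
      rw [← map_expand, hGH]
      have hC : ((A - 1) ^ 2).map (C : ℤ_[ℓ] →+* ℤ_[ℓ][X]) = (A' - 1) ^ 2 := by
        rw [← RingHom.mapMatrix_apply, map_pow, map_sub, map_one]
        rfl
      have hsq : expand ℤ_[ℓ] 2 ((A - 1) ^ 2).charpoly = (sc X - (A' - 1)).det * (sc X + (A' - 1)).det := by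
        rw [Matrix.charpoly, AlgHom.map_det, ← Matrix.det_mul]
        congr 1
        have hc : Commute (sc X) (A' - 1) := Matrix.scalar_commute _ (fun r ↦ Commute.all _ _) _
        have h2 : (sc X - (A' - 1)) * (sc X + (A' - 1)) = sc (X ^ 2) - (A' - 1) ^ 2 := by
          rw [sub_mul, mul_add, mul_add, map_pow, sq, sq, hc.eq]
          abel
        rw [h2, ← hC]
        ext i j
        rcases eq_or_ne i j with rfl | hij <;>
          simp [Matrix.charmatrix_apply, sc, *]
      have h1 : (sc X - (A' - 1)).det = (f.map (Int.castRingHom ℤ_[ℓ])).comp (X + C 1) := by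
        rw [← hev, map_add, map_one, map_one]
        congr 1
        abel
      have h3 : (sc X + (A' - 1)).det = (-1) ^ g * (f.map (Int.castRingHom ℤ_[ℓ])).comp (C 1 - X) := by
        rw [← hev, show sc X + (A' - 1) = -(sc (C 1 - X) - A') by rw [map_sub, map_one, map_one]; abel,
          Matrix.det_neg, Fintype.card_fin]
      rw [hsq, h1, h3, hgd]
      simp only [H, Polynomial.map_mul, Polynomial.map_comp, Polynomial.map_add, Polynomial.map_sub,
        Polynomial.map_X, Polynomial.map_C, map_pow, map_neg, map_one, Polynomial.map_one,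
        Polynomial.map_pow, Polynomial.map_neg]
      ring
    have hsc : ((n : ℤ_[ℓ]) • B).charpoly.coeff i = (n : ℤ_[ℓ]) ^ (d - i) * B.charpoly.coeff i := by
      have h1 : ((n : ℤ_[ℓ]) • B).charpoly.comp (C (n : ℤ_[ℓ]) * X) =
          C ((n : ℤ_[ℓ]) ^ d) * B.charpoly := by
        rw [Polynomial.comp, ← Polynomial.eval_map, ← Matrix.charpoly_map, Matrix.eval_charpoly,
          Matrix.charpoly, ← hgd, map_pow,
          show (C (n : ℤ_[ℓ])) ^ g * B.charmatrix.det = ((C (n : ℤ_[ℓ])) • B.charmatrix).det by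
            rw [Matrix.det_smul, Fintype.card_fin]]
        congr 1
        ext i j
        rcases eq_or_ne i j with rfl | hij <;>
          simp [Matrix.charmatrix_apply, Matrix.smul_apply, mul_sub, *]
      have h2 := congrArg (fun p : ℤ_[ℓ][X] ↦ p.coeff i) h1
      simp only [comp_C_mul_X_coeff, coeff_C_mul] at h2
      refine mul_right_cancel₀ (pow_ne_zero i (Nat.cast_ne_zero.mpr hn.ne' : (n : ℤ_[ℓ]) ≠ 0)) ?_
      rw [h2, mul_right_comm, ← pow_add, Nat.sub_add_cancel hi]
    have hdiv : ((ℓ ^ ((d - i) * n.factorization ℓ) : ℕ) : ℤ_[ℓ]) ∣ (G.coeff i : ℤ_[ℓ]) := by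
      have : (G.coeff i : ℤ_[ℓ]) = ((n : ℤ_[ℓ]) • B).charpoly.coeff i := by
        rw [← hB, ← hG, coeff_map]; rfl
      rw [this, hsc]
      refine dvd_mul_of_dvd_left ?_ _
      rw [mul_comm, pow_mul, Nat.cast_pow]
      exact pow_dvd_pow_of_dvd (Nat.cast_dvd_cast (Nat.ordProj_dvd n ℓ)) _
    rw [Nat.cast_pow, PadicInt.pow_p_dvd_int_iff] at hdiv
    exact (hℓ.pow_dvd_iff_le_factorization (Int.natAbs_ne_zero.mpr h0)).mp
      (by exact_mod_cast Int.natAbs_dvd_natAbs.mpr hdiv)
  choose! c hc using hdvd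
  let F : ℤ[X] := X ^ d + ∑ i ∈ Finset.range d, C (c i) * X ^ i
  have hF : F.Monic := monic_X_pow_add (by
    refine lt_of_le_of_lt (degree_sum_le _ _) ((Finset.sup_lt_iff (WithBot.bot_lt_coe d)).mpr ?_)
    intro i hi
    exact lt_of_le_of_lt (degree_C_mul_X_pow_le i _) (WithBot.coe_lt_coe.mpr (Finset.mem_range.mp hi)))
  have hn0 : (n : K) ≠ 0 := Nat.cast_ne_zero.mpr hn.ne'
  let β : K := ((α - 1) / s) ^ 2
  have hβ : (α - 1) ^ 2 = n * β := by
    have hs0 : s ≠ 0 := fun h ↦ hn0 (by rw [← hs, h]; ring)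
    rw [← hs]
    simp only [β]
    field_simp
  have hFβ : aeval β F = 0 := by
    have h0 : aeval ((α - 1) ^ 2) G = 0 := by
      rw [← expand_aeval, hGH]
      simp only [H, map_mul, aeval_comp, map_add, aeval_X, map_one, sub_add_cancel, hα,
        zero_mul, mul_zero]
    rw [hβ, aeval_eq_sum_range, hGd, Finset.sum_range_succ, hGm, one_smul] at h0
    have h1 : (n : K) ^ d * aeval β F = 0 := by
      rw [← h0, map_add, map_pow, aeval_X, map_sum, mul_add, Finset.mul_sum, add_comm]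
      congr 1
      · refine Finset.sum_congr rfl fun i hi ↦ ?_
        have hid : i ≤ d := (Finset.mem_range.mp hi).le
        rw [hc i hid, zsmul_eq_mul, map_mul, map_pow, aeval_C, aeval_X]
        simp only [algebraMap_int_eq, eq_intCast, Int.cast_mul, Int.cast_pow, Int.cast_natCast]
        calc (n : K) ^ d * ((c i : K) * β ^ i) = (n : K) ^ (d - i) * (n : K) ^ i * ((c i : K) * β ^ i) := by
              rw [← pow_add, Nat.sub_add_cancel hid]
          _ = (n : K) ^ (d - i) * (c i : K) * ((n : K) * β) ^ i := by ring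
      · ring
    exact (mul_eq_zero.mp h1).resolve_left (pow_ne_zero _ hn0)
  exact IsIntegral.of_pow two_pos ⟨F, hF, hFβ⟩

end Groth.Agent.SSRedLib
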