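import Mathlib

/-! Torsion coinvariants of an automorphism of prime order. -/

set_option autoImplicit false

universe u

namespace Groth.Agent.SSRedLib

variable {ℓ : ℕ} [Fact ℓ.Prime] {M : Type u} [AddCommGroup M] [Module ℤ_[ℓ] M]
  [Module.Free ℤ_[ℓ] M] [Module.Finite ℤ_[ℓ] M]

theorem natCard_quot_smul_top (L : Submodule ℤ_[ℓ] M) :
    Nat.card (L ⧸ LinearMap.range ((ℓ : ℤ_[ℓ]) • LinearMap.id : L →ₗ[ℤ_[ℓ]] L)) =
      ℓ ^ Module.finrank ℤ_[ℓ] L := by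
  let b := Module.finBasis ℤ_[ℓ] L
  let π := (PadicInt.toZMod (p := ℓ)).compLeft (Fin (Module.finrank ℤ_[ℓ] L))
  let φ : L →+ (Fin (Module.finrank ℤ_[ℓ] L) → ZMod ℓ) :=
    π.toAddMonoidHom.comp b.equivFun.toAddEquiv.toAddMonoidHom
  have hs : Function.Surjective φ := fun y ↦ by
    choose x hx using fun i ↦ ZMod.ringHom_surjective (PadicInt.toZMod (p := ℓ)) (y i)
    refine ⟨b.equivFun.symm x, funext fun i ↦ ?_⟩
    change PadicInt.toZMod (b.equivFun (b.equivFun.symm x) i) = y i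
    rw [LinearEquiv.apply_symm_apply]
    exact hx i
  have hk : φ.ker = (LinearMap.range ((ℓ : ℤ_[ℓ]) • LinearMap.id : L →ₗ[ℤ_[ℓ]] L)).toAddSubgroup := by
    ext x
    simp only [AddMonoidHom.mem_ker, Submodule.mem_toAddSubgroup, LinearMap.mem_range,
      LinearMap.smul_apply, LinearMap.id_apply]
    constructor
    · intro hx
      have : ∀ i, (ℓ : ℤ_[ℓ]) ∣ b.equivFun x i := fun i ↦ by
        rw [← Ideal.mem_span_singleton, ← PadicInt.maximalIdeal_eq_span_p, ← PadicInt.ker_toZMod]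
        exact congrFun hx i
      choose c hc using this
      refine ⟨b.equivFun.symm c, b.equivFun.injective (funext fun i ↦ ?_)⟩
      rw [map_smul, LinearEquiv.apply_symm_apply, Pi.smul_apply, smul_eq_mul, hc]
    · rintro ⟨y, rfl⟩
      funext i
      simp [φ, π]
  have h := Nat.card_congr (QuotientAddGroup.quotientKerEquivOfSurjective φ hs).toEquiv
  rw [hk, Nat.card_fun, Nat.card_zmod, Nat.card_fin] at h
  exact h

theorem torsion_coinvariants_of_projection (f e : Module.End ℤ_[ℓ] M) (he : e * e = e)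
    (hfe : f * e = f) (hef : e * f = f) (hker : LinearMap.ker f ≤ LinearMap.ker e)
    (h : (∃ v w, (ℓ : ℤ_[ℓ]) • e = f * v ∧ f = (ℓ : ℤ_[ℓ]) • w ∧ ℓ = 2) ∨
      (∃ v w, (ℓ : ℤ_[ℓ]) • e = f * f * v ∧ f * f = (ℓ : ℤ_[ℓ]) • w ∧ ℓ = 3)) :
    (∀ x ∈ Submodule.torsion ℤ_[ℓ] (M ⧸ LinearMap.range f), (ℓ : ℤ_[ℓ]) • x = 0) ∧
      ∃ r : ℕ, r * (ℓ - 1) = Module.finrank ℤ_[ℓ] M - Module.finrank ℤ_[ℓ] (LinearMap.ker f) ∧
        Nat.card (Submodule.torsion ℤ_[ℓ] (M ⧸ LinearMap.range f)) = ℓ ^ r := by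
  have hℓ0 : (ℓ : ℤ_[ℓ]) ≠ 0 := Nat.cast_ne_zero.mpr (Fact.out : ℓ.Prime).ne_zero
  have hef' : ∀ x, e (f x) = f x := fun x ↦ LinearMap.congr_fun hef x
  have hfe' : ∀ x, f (e x) = f x := fun x ↦ LinearMap.congr_fun hfe x
  have hee : ∀ x, e (e x) = e x := fun x ↦ LinearMap.congr_fun he x
  have hkereq : LinearMap.ker f = LinearMap.ker e :=
    le_antisymm hker fun x hx ↦ by
      rw [LinearMap.mem_ker] at hx ⊢
      rw [← hfe', hx, map_zero]
  let L := LinearMap.range e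
  let fL : L →ₗ[ℤ_[ℓ]] L := f.restrict (p := L) (q := L) fun x _ ↦ ⟨f x, hef' x⟩
  have hfLinj : Function.Injective fL := by
    refine (injective_iff_map_eq_zero _).mpr fun x hx ↦ ?_
    obtain ⟨y, hy⟩ := x.2
    have : x.1 ∈ LinearMap.ker e := hkereq ▸ (congrArg Subtype.val hx : f x.1 = 0)
    refine Subtype.ext ?_
    rw [LinearMap.mem_ker, ← hy, hee] at this
    rw [← hy, this]; rfl
  have hrank : Module.finrank ℤ_[ℓ] L = Module.finrank ℤ_[ℓ] M - Module.finrank ℤ_[ℓ] (LinearMap.ker f) := by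
    have hc : IsCompl (LinearMap.range e) (LinearMap.ker e) :=
      LinearMap.IsIdempotentElem.isCompl he
    have := Module.finrank_prod (R := ℤ_[ℓ]) (M := LinearMap.range e) (M' := LinearMap.ker e)
    rw [(Submodule.prodEquivOfIsCompl _ _ hc).finrank_eq] at this
    rw [hkereq]
    simp only [L]
    omega
  -- the torsion is the image of `L`
  let j : L →ₗ[ℤ_[ℓ]] M ⧸ LinearMap.range f := (LinearMap.range f).mkQ.comp L.subtype
  have hkerj : LinearMap.ker j = LinearMap.range fL := by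
    ext x
    simp only [j, LinearMap.mem_ker, LinearMap.comp_apply, Submodule.subtype_apply,
      Submodule.mkQ_apply, Submodule.Quotient.mk_eq_zero, LinearMap.mem_range]
    constructor
    · rintro ⟨y, hy⟩
      exact ⟨⟨e y, y, rfl⟩, Subtype.ext ((hfe' y).trans hy)⟩
    · rintro ⟨y, rfl⟩
      exact ⟨y.1, rfl⟩
  have hℓe : ∀ y, (ℓ : ℤ_[ℓ]) • e y ∈ LinearMap.range f := by
    intro y
    rcases h with ⟨v, w, h1, -⟩ | ⟨v, w, h1, -⟩
    · exact ⟨v y, (LinearMap.congr_fun h1 y).symm⟩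
    · exact ⟨f (v y), (LinearMap.congr_fun h1 y).symm⟩
  have htor : Submodule.torsion ℤ_[ℓ] (M ⧸ LinearMap.range f) = LinearMap.range j := by
    ext x
    constructor
    · intro hx
      obtain ⟨x, rfl⟩ := Submodule.mkQ_surjective _ x
      obtain ⟨⟨c, hc⟩, hcx⟩ := hx
      rw [Submonoid.mk_smul, ← map_smul, Submodule.mkQ_apply, Submodule.Quotient.mk_eq_zero] at hcx
      obtain ⟨y, hy⟩ := hcx
      have h2 : x = e x := by
        refine smul_right_injective M (nonZeroDivisors.ne_zero hc) ?_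
        change c • x = c • e x
        rw [← map_smul, ← hy, hef']
      exact ⟨⟨x, x, h2.symm⟩, rfl⟩
    · rintro ⟨⟨_, y, rfl⟩, rfl⟩
      refine ⟨⟨(ℓ : ℤ_[ℓ]), mem_nonZeroDivisors_of_ne_zero hℓ0⟩, ?_⟩
      rw [Submonoid.mk_smul, ← map_smul]
      exact (Submodule.Quotient.mk_eq_zero _).mpr (hℓe y)
  refine ⟨fun x hx ↦ ?_, ?_⟩
  · rw [htor] at hx
    obtain ⟨⟨_, y, rfl⟩, rfl⟩ := hx
    rw [← map_smul]
    exact (Submodule.Quotient.mk_eq_zero _).mpr (hℓe y)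
  have hcard : Nat.card (Submodule.torsion ℤ_[ℓ] (M ⧸ LinearMap.range f)) =
      Nat.card (L ⧸ LinearMap.range fL) := by
    rw [htor, ← hkerj]
    exact Nat.card_congr (j.quotKerEquivRange.symm).toEquiv
  have hrange : ∀ (φ : Module.End ℤ_[ℓ] M) (φL : Module.End ℤ_[ℓ] L), (∀ x : L, (φL x).1 = φ x.1) →
      (∃ v w, (ℓ : ℤ_[ℓ]) • e = φ * v ∧ φ = (ℓ : ℤ_[ℓ]) • w) → φ * e = φ → e * φ = φ →
      LinearMap.range φL = LinearMap.range ((ℓ : ℤ_[ℓ]) • LinearMap.id : L →ₗ[ℤ_[ℓ]] L) := by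
    rintro φ φL hφL ⟨v, w, hv, hw⟩ hφe heφ
    refine le_antisymm ?_ ?_
    · rintro _ ⟨x, rfl⟩
      refine ⟨⟨e (w x.1), _, rfl⟩, Subtype.ext ?_⟩
      change (ℓ : ℤ_[ℓ]) • e (w x.1) = _
      rw [hφL, ← map_smul, ← LinearMap.smul_apply, ← hw, ← Module.End.mul_apply, heφ]
    · rintro _ ⟨⟨_, y, rfl⟩, rfl⟩
      refine ⟨⟨e (v y), _, rfl⟩, Subtype.ext ?_⟩
      rw [hφL]
      change φ (e (v y)) = (ℓ : ℤ_[ℓ]) • e y
      rw [← Module.End.mul_apply, hφe, ← Module.End.mul_apply, ← hv, LinearMap.smul_apply]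
  rcases h with ⟨v, w, h1, h2, rfl⟩ | ⟨v, w, h1, h2, rfl⟩
  · refine ⟨Module.finrank ℤ_[2] L, by rw [← hrank]; omega, ?_⟩
    rw [hcard, hrange f fL (fun x ↦ rfl) ⟨v, w, h1, h2⟩ hfe hef, natCard_quot_smul_top]
  · have hsq : Nat.card (L ⧸ LinearMap.range fL) * Nat.card (L ⧸ LinearMap.range fL) =
        3 ^ Module.finrank ℤ_[3] L := by
      rw [← natCard_quot_smul_top L, ← hrange (f * f) (fL * fL) (fun x ↦ rfl) ⟨v, w, h1, h2⟩
        (by rw [mul_assoc, hfe]) (by rw [← mul_assoc, hef])]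
      have hle : LinearMap.range (fL * fL) ≤ LinearMap.range fL := LinearMap.range_comp_le_range fL fL
      rw [Submodule.card_eq_card_quotient_mul_card
        ((LinearMap.range fL).map (LinearMap.range (fL * fL)).mkQ)]
      rw [Nat.card_congr (Submodule.quotientQuotientEquivQuotient _ _ hle).toEquiv]
      have heq : LinearMap.range ((LinearMap.range (fL * fL)).mkQ.comp fL) =
          (LinearMap.range fL).map (LinearMap.range (fL * fL)).mkQ := LinearMap.range_comp _ _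
      have hk : LinearMap.ker ((LinearMap.range (fL * fL)).mkQ.comp fL) = LinearMap.range fL := by
        ext x
        simp only [LinearMap.mem_ker, LinearMap.comp_apply, Submodule.mkQ_apply,
          Submodule.Quotient.mk_eq_zero, LinearMap.mem_range, Module.End.mul_apply]
        exact ⟨fun ⟨y, hy⟩ ↦ ⟨y, hfLinj hy⟩, fun ⟨y, hy⟩ ↦ ⟨y, by rw [hy]⟩⟩
      congr 1
      rw [← heq, ← hk]
      exact Nat.card_congr ((LinearMap.range (fL * fL)).mkQ.comp fL).quotKerEquivRange.toEquiv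
    obtain ⟨r, -, hr⟩ := (Nat.dvd_prime_pow Nat.prime_three).mp (hsq ▸ dvd_mul_right _ _)
    rw [hr, ← pow_add] at hsq
    refine ⟨r, ?_, hcard.trans hr⟩
    have := Nat.pow_right_injective (le_refl 2 |>.trans (by norm_num)) hsq
    rw [← hrank]
    omega

theorem torsion_coinvariants (A : M ≃ₗ[ℤ_[ℓ]] M) (hA : A ^ ℓ = 1) (f : Module.End ℤ_[ℓ] M)
    (hf : f = (A : M →ₗ[ℤ_[ℓ]] M) - 1)
    (hcase : (ℓ = 2 ∧ ∃ B : Module.End ℤ_[ℓ] M, f = (2 : ℤ_[ℓ]) • B) ∨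
      (ℓ = 2 ∧ ∃ B : Module.End ℤ_[ℓ] M, f ^ 2 = (4 : ℤ_[ℓ]) • B) ∨
      (ℓ = 3 ∧ ∃ B : Module.End ℤ_[ℓ] M, f ^ 2 = (3 : ℤ_[ℓ]) • B)) :
    (∀ x ∈ Submodule.torsion ℤ_[ℓ] (M ⧸ LinearMap.range f), (ℓ : ℤ_[ℓ]) • x = 0) ∧
      ∃ r : ℕ, r * (ℓ - 1) = Module.finrank ℤ_[ℓ] M - Module.finrank ℤ_[ℓ] (LinearMap.ker f) ∧
        Nat.card (Submodule.torsion ℤ_[ℓ] (M ⧸ LinearMap.range f)) = ℓ ^ r := by
  have hAf : (A : Module.End ℤ_[ℓ] M) = 1 + f := by rw [hf]; exact (add_sub_cancel _ _).symm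
  have hpow : ∀ n : ℕ, (A : Module.End ℤ_[ℓ] M) ^ n = ((A ^ n : M ≃ₗ[ℤ_[ℓ]] M) : Module.End ℤ_[ℓ] M) :=
    fun n ↦ by
      induction n with
      | zero => ext x; simp
      | succ n ih => rw [pow_succ, ih, pow_succ]; rfl
  have hA1 : (1 + f) ^ ℓ = 1 := by rw [← hAf, hpow, hA]; rfl
  have cancel : ∀ (c : ℤ_[ℓ]), c ≠ 0 → ∀ X Y : Module.End ℤ_[ℓ] M, c • X = c • Y → X = Y :=
    fun c hc X Y h ↦ LinearMap.ext fun x ↦ smul_right_injective M hc (LinearMap.congr_fun h x)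
  have two : ∀ (C : Module.End ℤ_[ℓ] M), ℓ = 2 → f = (2 : ℤ_[ℓ]) • C →
      (∀ x ∈ Submodule.torsion ℤ_[ℓ] (M ⧸ LinearMap.range f), (ℓ : ℤ_[ℓ]) • x = 0) ∧
      ∃ r : ℕ, r * (ℓ - 1) = Module.finrank ℤ_[ℓ] M - Module.finrank ℤ_[ℓ] (LinearMap.ker f) ∧
        Nat.card (Submodule.torsion ℤ_[ℓ] (M ⧸ LinearMap.range f)) = ℓ ^ r := by
    intro C hℓ hC
    subst hℓ
    have h2 : ((2 : ℕ) : ℤ_[2]) ≠ 0 := by norm_num
    have hC' : f = (2 : ℕ) • C := by rw [hC, ← Nat.cast_smul_eq_nsmul ℤ_[2], Nat.cast_ofNat]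
    have hff : f * f = -((2 : ℕ) • f) := eq_neg_of_add_eq_zero_left (by
      rw [← sub_eq_zero.mpr hA1]; noncomm_ring)
    have hCC : C * C = -C := by
      refine cancel _ h2 _ _ (cancel _ h2 _ _ ?_)
      simp only [Nat.cast_smul_eq_nsmul]
      rw [smul_neg, smul_neg, ← hC', ← hff, hC']
      noncomm_ring
    refine torsion_coinvariants_of_projection f (-C) (by rw [neg_mul_neg, hCC])
      (by rw [hC', mul_neg, smul_mul_assoc, hCC, smul_neg, neg_neg])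
      (by rw [hC', neg_mul, mul_smul_comm, hCC, smul_neg, neg_neg]) (fun x hx ↦ ?_)
      (Or.inl ⟨-1, C, by rw [Nat.cast_smul_eq_nsmul, smul_neg, mul_neg, mul_one, hC'],
        by rw [Nat.cast_smul_eq_nsmul, hC'], rfl⟩)
    rw [LinearMap.mem_ker, hC, LinearMap.smul_apply] at hx
    rw [LinearMap.mem_ker, LinearMap.neg_apply, neg_eq_zero]
    exact (smul_eq_zero.mp hx).resolve_left (by norm_num)
  rcases hcase with ⟨h2, B, hB⟩ | ⟨h2, B, hB⟩ | ⟨rfl, B, hB⟩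
  · exact two B h2 hB
  · refine two (-B) h2 ?_
    subst h2
    have h0 : ((2 : ℕ) : ℤ_[2]) ≠ 0 := by norm_num
    have hB' : f * f = (4 : ℕ) • B := by
      rw [← sq, hB, ← Nat.cast_smul_eq_nsmul ℤ_[2], Nat.cast_ofNat]
    have hff : (2 : ℕ) • f = -(f * f) := eq_neg_of_add_eq_zero_left (by
      rw [← sub_eq_zero.mpr hA1]; noncomm_ring)
    rw [show (2 : ℤ_[2]) = ((2 : ℕ) : ℤ_[2]) by norm_num]
    refine cancel _ h0 _ _ ?_
    simp only [Nat.cast_smul_eq_nsmul]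
    rw [hff, hB', ← mul_smul, smul_neg]
    norm_num
  · have h3 : ((3 : ℕ) : ℤ_[3]) ≠ 0 := by norm_num
    have hB' : f * f = (3 : ℕ) • B := by
      rw [← sq, hB, ← Nat.cast_smul_eq_nsmul ℤ_[3], Nat.cast_ofNat]
    have hrel : f * (f * f) = -((3 : ℕ) • (f * f) + (3 : ℕ) • f) := eq_neg_of_add_eq_zero_left (by
      rw [← sub_eq_zero.mpr hA1]; noncomm_ring)
    have hcomm : B * f = f * B := cancel _ h3 _ _ (by
      simp only [Nat.cast_smul_eq_nsmul]
      rw [← smul_mul_assoc, ← mul_smul_comm, ← hB', mul_assoc])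
    have hfB : f * B = -f - f * f := cancel _ h3 _ _ (by
      simp only [Nat.cast_smul_eq_nsmul]
      rw [← mul_smul_comm, ← hB', hrel]
      noncomm_ring)
    have hBB : B * B = (2 : ℕ) • B + f := cancel _ h3 _ _ (by
      simp only [Nat.cast_smul_eq_nsmul]
      rw [← smul_mul_assoc, ← hB', mul_assoc, hfB, mul_sub, mul_neg, hrel,
        smul_add (3 : ℕ) ((2 : ℕ) • B) f, smul_comm (3 : ℕ) (2 : ℕ) B, ← hB']
      noncomm_ring)
    refine torsion_coinvariants_of_projection f (-(B + f)) ?_ ?_ ?_ (fun x hx ↦ ?_)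
      (Or.inr ⟨f + 1 + 1, B, ?_, by rw [Nat.cast_smul_eq_nsmul, hB'], rfl⟩)
    · rw [neg_mul_neg, add_mul, mul_add, mul_add, hBB, hcomm, hfB, hB']
      noncomm_ring
    · rw [mul_neg, mul_add, hfB]
      noncomm_ring
    · rw [neg_mul, add_mul, hcomm, hfB]
      noncomm_ring
    · rw [LinearMap.mem_ker] at hx
      have hBx : B x = 0 := by
        have := LinearMap.congr_fun hB x
        rw [sq, Module.End.mul_apply, hx, map_zero, LinearMap.smul_apply] at this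
        exact (smul_eq_zero.mp this.symm).resolve_left (by norm_num)
      simp [hBx, hx]
    · rw [Nat.cast_smul_eq_nsmul, smul_neg, smul_add, ← hB', mul_add, mul_add, mul_one,
        mul_assoc, hrel]
      abel

end Groth.Agent.SSRedLib
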